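import Groth.Agent.BoundaryConn.Compactify
import Groth.Agent.ZeroConnLib.Basic
import Groth.Agent.SerreLib.Normal
import Groth.Agent.S15544

/-!
# The complement of an affine open in a proper variety is connected
-/

set_option autoImplicit false
set_option backward.isDefEq.respectTransparency false
set_option backward.isDefEq.respectTransparency.types false
set_option linter.style.haveILetI false

universe u

open CategoryTheory CategoryTheory.Limits AlgebraicGeometry TopologicalSpace Opposite

noncomputable section

namespace Groth.Agent.BoundaryConn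

/-- In an irreducible scheme of finite type over a field all closed points have the full dimension. -/
theorem ringKrullDim_stalk_closed {k : Type u} [Field k] {X : Scheme.{u}} (f : X ⟶ Spec (CommRingCat.of k))
    [LocallyOfFiniteType f] [IrreducibleSpace X] (x : X) (hx : IsClosed ({x} : Set X)) :
    ringKrullDim (X.presheaf.stalk x) = topologicalKrullDim X := by
  rw [← DimFormulaLib.localDim_eq_of_isClosed f x hx]
  haveI : Nonempty {U : Opens X // x ∈ U} := ⟨⟨⊤, trivial⟩⟩
  exact (iInf_congr fun U : {U : Opens X // x ∈ U} =>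
    DimFormulaLib.topologicalKrullDim_opens f U.1 ⟨x, U.2⟩).trans iInf_const

/-- The complement of a nonempty affine open of a proper variety of dimension at least two is connected. -/
theorem isConnected_compl (k : Type u) [Field k] {X : Scheme.{u}} (p : X ⟶ Spec (CommRingCat.of k)) [IsProper p]
    [IsIntegral X] (hdim : (2 : WithBot ℕ∞) ≤ topologicalKrullDim X) (U : X.Opens) (hU : IsAffineOpen U)
    (hne : (U : Set X).Nonempty) : _root_.IsConnected ((U : Set X)ᶜ) := by
  haveI : Nonempty U := ⟨⟨_, hne.some_mem⟩⟩
  haveI : IsAffine U.toScheme := hU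
  haveI : IsIntegral U.toScheme := inferInstance
  obtain ⟨N, pN, L, s, a, hN, hpN, hnor, hL, hs, hWne, hafin, hasurj, hap⟩ :=
    exists_normal_compactification k (U.ι ≫ p)
  let W := CohB1.genLocus L s
  haveI : Nonempty W := ⟨⟨_, hWne.some_mem⟩⟩
  haveI : IsIntegral W.toScheme := inferInstance
  haveI : IsAffine W.toScheme := isAffine_of_isAffineHom a
  -- dimensions
  have hdN : (2 : WithBot ℕ∞) ≤ topologicalKrullDim N := by
    rw [← DimFormulaLib.topologicalKrullDim_opens pN W hWne]
    refine le_trans ?_ (dim_le_of_surjective a)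
    exact (DimFormulaLib.topologicalKrullDim_opens p U hne).symm ▸ hdim
  -- connectedness of the boundary of the compactification
  letI : N.Over (Spec (CommRingCat.of k)) := ⟨pN⟩
  haveI : IsProper (N ↘ Spec (CommRingCat.of k)) := hpN
  have hC : _root_.IsConnected ((W : Set N)ᶜ) := by
    haveI := hs
    refine ZeroConnLib.isConnected_compl_genLocus k hL s fun x hx => ?_
    haveI : IsLocallyNoetherian N := LocallyOfFiniteType.isLocallyNoetherian pN
    haveI := (hnor x).1
    haveI := (hnor x).2
    refine SerreLib.two_le_depth_of_normal (lt_of_lt_of_le ?_ ((ringKrullDim_stalk_closed pN x hx).symm ▸ hdN))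
    norm_num
  -- the graph of `a`
  let G : W.toScheme ⟶ pullback pN p := pullback.lift W.ι (a ≫ U.ι) (by rw [Category.assoc, hap])
  haveI : QuasiCompact G := by
    haveI : QuasiCompact (G ≫ pullback.fst pN p ≫ pN) :=
      (HasAffineProperty.iff_of_isAffine (P := @QuasiCompact)).2 inferInstance
    exact QuasiCompact.of_comp G (pullback.fst pN p ≫ pN)
  haveI : IsImmersion G := by
    haveI : IsImmersion (G ≫ pullback.fst pN p) := by rw [pullback.lift_fst]; infer_instance
    exact IsImmersion.of_comp G (pullback.fst pN p)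
  haveI : IsIntegral G.image := ProperFin.isIntegral_image G
  let pY : G.image ⟶ N := G.imageι ≫ pullback.fst pN p
  let qY : G.image ⟶ X := G.imageι ≫ pullback.snd pN p
  have hpY : G.toImage ≫ pY = W.ι := by
    simp only [pY, G, G.toImage_imageι_assoc, pullback.lift_fst]
  have hqY : G.toImage ≫ qY = a ≫ U.ι := by
    simp only [qY, G, G.toImage_imageι_assoc, pullback.lift_snd]
  have h1 : pY ⁻¹ᵁ W = G.toImage.opensRange := by
    let V := pullback.fst pN p ⁻¹ᵁ W
    let l : W.toScheme ⟶ V.toScheme := IsOpenImmersion.lift V.ι G (by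
      rw [Scheme.Opens.range_ι]
      rintro _ ⟨w, rfl⟩
      show pullback.fst pN p (G w) ∈ W
      rw [← Scheme.Hom.comp_apply, pullback.lift_fst]
      exact w.2)
    haveI : IsProper (l ≫ (pullback.fst pN p ∣_ W)) := by
      rw [show l ≫ (pullback.fst pN p ∣_ W) = 𝟙 _ by
        rw [← cancel_mono W.ι, Category.assoc, morphismRestrict_ι, IsOpenImmersion.lift_fac_assoc,
          pullback.lift_fst, Category.id_comp]]
      infer_instance
    rw [Scheme.Hom.comp_preimage]
    exact imageι_preimage_eq G V l (IsOpenImmersion.lift_fac _ _ _) (pullback.fst pN p ∣_ W)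
  have h2 : qY ⁻¹ᵁ U = G.toImage.opensRange := by
    let V := pullback.snd pN p ⁻¹ᵁ U
    let l : W.toScheme ⟶ V.toScheme := IsOpenImmersion.lift V.ι G (by
      rw [Scheme.Opens.range_ι]
      rintro _ ⟨w, rfl⟩
      show pullback.snd pN p (G w) ∈ U
      rw [← Scheme.Hom.comp_apply, pullback.lift_snd]
      exact (a w).2)
    haveI : IsProper (l ≫ (pullback.snd pN p ∣_ U)) := by
      rw [show l ≫ (pullback.snd pN p ∣_ U) = a by
        rw [← cancel_mono U.ι, Category.assoc, morphismRestrict_ι, IsOpenImmersion.lift_fac_assoc,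
          pullback.lift_snd]]
      infer_instance
    rw [Scheme.Hom.comp_preimage]
    exact imageι_preimage_eq G V l (IsOpenImmersion.lift_fac _ _ _) (pullback.snd pN p ∣_ U)
  haveI : IsProper pY := inferInstance
  haveI : IsProper qY := inferInstance
  -- `qY` is surjective
  have hqsurj : Function.Surjective qY := by
    intro x
    have h3 : (U : Set X) ⊆ Set.range qY := fun z hz => by
      obtain ⟨w, hw⟩ := a.surjective ⟨z, hz⟩
      refine ⟨G.toImage w, ?_⟩
      rw [← Scheme.Hom.comp_apply, hqY, Scheme.Hom.comp_apply, hw]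
      rfl
    have h4 := closure_minimal h3 qY.isClosedMap.isClosed_range
    exact h4 (U.2.dense hne x)
  -- `pY` is birational
  have hgY : G.toImage (genericPoint W.toScheme) = genericPoint G.image :=
    genericPoint_eq_of_isOpenImmersion G.toImage
  have hgW : W.ι (genericPoint W.toScheme) = genericPoint N := genericPoint_eq_of_isOpenImmersion W.ι
  have hgen : pY (genericPoint G.image) = genericPoint N := by
    rw [← hgY, ← Scheme.Hom.comp_apply, hpY, hgW]
  have hbir : IsIso (pY.stalkMap (genericPoint G.image)) := by
    rw [← hgY]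
    have e : IsIso (pY.stalkMap (G.toImage (genericPoint W.toScheme)) ≫ G.toImage.stalkMap (genericPoint W.toScheme)) := by
      rw [← Scheme.Hom.stalkMap_comp, Scheme.Hom.stalkMap_congr_hom _ _ hpY]
      infer_instance
    exact IsIso.of_isIso_comp_right _ (G.toImage.stalkMap (genericPoint W.toScheme))
  haveI : IsLocallyNoetherian N := LocallyOfFiniteType.isLocallyNoetherian pN
  have hfib : ∀ z : N, _root_.IsConnected (pY ⁻¹' {z}) := fun z => by
    haveI := Groth.Agent.S15544.result hnor pY hgen hbir z
    rw [← pY.range_fiberι z]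
    exact isConnected_range (pY.fiberι z).continuous
  have hquot : Topology.IsQuotientMap pY :=
    pY.isClosedMap.isQuotientMap pY.continuous fun z => (hfib z).1
  have hpre : _root_.IsConnected (pY ⁻¹' ((W : Set N)ᶜ)) :=
    hquot.isCoinducing.isConnected_preimage_of_isClosed hfib W.2.isClosed_compl hC
  have hset : qY ⁻¹' ((U : Set X)ᶜ) = pY ⁻¹' ((W : Set N)ᶜ) := by
    rw [Set.preimage_compl, Set.preimage_compl]
    exact congrArg compl (congrArg (fun O : G.image.Opens => (O : Set G.image)) (h2.trans h1.symm))
  rw [← Set.image_preimage_eq ((U : Set X)ᶜ) hqsurj, hset]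
  exact hpre.image qY qY.continuous.continuousOn

open Groth.Agent.AmpleLib in
/-- The support of the zero scheme is the complement of the locus where the section generates. -/
theorem support_zeroScheme {X : Scheme.{u}} {L : X.Modules} (hL : PicF.IsInvertible L) (s : Coh.structureModule X ⟶ L) :
    ((PicF2.zeroScheme L s).support : Set X) = (CohB1.genLocus L s : Set X)ᶜ := by
  ext x
  obtain ⟨W, e, hxW, he⟩ := ParaFLib.exists_gen_nhd hL x
  obtain ⟨_, ⟨U, hU, rfl⟩, hxU, hUW⟩ := X.isBasis_affineOpens.exists_subset_of_mem_open hxW W.2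
  have he' := he.res (show U ≤ W from hUW)
  obtain ⟨c, hc⟩ := (he' U le_rfl).2 (AmpleLib.resT (AmpleLib.sec s) (O := U))
  have hc' : c • L.presheaf.map (homOfLE (show U ≤ W from hUW)).op e = AmpleLib.resT (AmpleLib.sec s) (O := U) := by
    rw [← hc]
    show _ = c • _
    rw [ParaFLib.res_res]
  rw [SetLike.mem_coe, Scheme.IdealSheafData.mem_support_iff_of_mem (U := ⟨U, hU⟩) hxU,
    ZeroSchemeLib.zeroScheme_ideal hL, ZeroSchemeLib.colonIdeal_of_gen s he' hc', Scheme.zeroLocus_span,
    Scheme.mem_zeroLocus_iff, Set.mem_compl_iff, SetLike.mem_coe]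
  simp only [Set.mem_singleton_iff, forall_eq]
  have := AmpleLib.genLocus_inf_eq_basicOpen s he' hc'
  rw [← this]
  exact ⟨fun h hx => h ⟨hx, hxU⟩, fun h hx => h hx.1⟩

/-- A monomorphic section generates at the generic point. -/
theorem genericPoint_mem_genLocus {X : Scheme.{u}} [IsIntegral X] {L : X.Modules} (hL : PicF.IsInvertible L)
    (s : Coh.structureModule X ⟶ L) [Mono s] : genericPoint X ∈ CohB1.genLocus L s := by
  rw [Groth.Agent.AmpleLib.mem_genLocus_iff hL]
  have hs0 : s ≠ 0 := by
    intro h0
    have h1 := (PullbackMod.mono_iff_stalk s).1 inferInstance (genericPoint X)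
    have h2 : PullbackMod.stalkLin s (genericPoint X) (ParaFLib.oneG (genericPoint X)) = PullbackMod.stalkLin s (genericPoint X) 0 := by
      rw [map_zero, (PullbackMod.eq_zero_iff_stalk s).1 h0 (genericPoint X)]
      rfl
    have h3 := (ParaFLib.bijective_oneG (genericPoint X)).1
    exact one_ne_zero (h3 (show (1 : X.presheaf.stalk (genericPoint X)) • ParaFLib.oneG (genericPoint X) = (0 : X.presheaf.stalk (genericPoint X)) • ParaFLib.oneG (genericPoint X) by
      rw [one_smul, zero_smul]; exact h1 h2))
  have hb := (CurveLib.bijective_stalkLin_generic ParaFLib.isInvertible_structureModule hL hs0).comp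
    (ParaFLib.bijective_oneG (genericPoint X))
  convert hb using 1
  funext r
  rw [Function.comp_apply, map_smul]
  exact congrArg (r • ·) (PullbackMod.stalkLin_germ s (U := ⊤) _ trivial _).symm

end Groth.Agent.BoundaryConn
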