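import Groth.Agent.BoundaryConn.Compactify
import Groth.Agent.H1ZeroLib.VeryAmple
import Groth.Agent.AmpleEmb.Compose
import Groth.Agent.NormalSch.Birational
import Groth.Agent.BoundaryConn.Main

/-!
# Normal projective completions
-/

set_option autoImplicit false
set_option backward.isDefEq.respectTransparency false
set_option backward.isDefEq.respectTransparency.types false
set_option linter.style.haveILetI false

universe u

open CategoryTheory CategoryTheory.Limits AlgebraicGeometry TopologicalSpace Opposite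
open Groth.Agent.AmpleLib

noncomputable section

namespace Groth.Agent.BoundaryConn

/-- The normalization of an integral scheme has the same function field. -/
theorem surjective_stalkMap_generic {Z : Scheme.{u}} [IsIntegral Z] (g : Spec (CommRingCat.of Z.functionField) ⟶ Z)
    (hg : g = Spec.map (CommRingCat.ofHom (RingHom.id Z.functionField)) ≫ Z.fromSpecStalk (genericPoint Z))
    [QuasiCompact g] [QuasiSeparated g] :
    Function.Surjective (g.fromNormalization.stalkMap (genericPoint g.normalization)) := by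
  rw [← NormalSch.generic_normalization g]
  intro a
  have hsurj : Function.Surjective (Scheme.stalkClosedPointTo g) := by
    have h1 : Function.Surjective (Scheme.stalkClosedPointTo (Z.fromSpecStalk (genericPoint Z))) := by
      rw [Scheme.stalkClosedPointTo_fromSpecStalk]
      exact ((ConcreteCategory.isIso_iff_bijective _).mp inferInstance).2
    have h2 : g = Z.fromSpecStalk (genericPoint Z) := by
      rw [hg, show CommRingCat.ofHom (RingHom.id Z.functionField) = 𝟙 _ from rfl, Spec.map_id]
      exact Category.id_comp _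
    subst h2
    exact h1
  have hfac : g.toNormalization ≫ g.fromNormalization = g := g.toNormalization_fromNormalization
  have hsurj' : Function.Surjective (Scheme.stalkClosedPointTo (g.toNormalization ≫ g.fromNormalization)) := by
    rw [Scheme.Hom.toNormalization_fromNormalization]
    exact hsurj
  obtain ⟨b, hb⟩ := hsurj' (Scheme.stalkClosedPointTo g.toNormalization a)
  refine ⟨b, NormalSch.injective_stalkClosedPointTo g ?_⟩
  rw [← hb]
  exact congr($(Scheme.stalkClosedPointTo_comp g.toNormalization g.fromNormalization) b).symm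

/-- A normal integral quasi-projective scheme over a field is open in a normal projective one. -/
theorem exists_normal_projective_completion (k : Type u) [Field k] {U : Scheme.{u}} [IsIntegral U]
    (pU : U ⟶ Spec (CommRingCat.of k)) (hnor : Pi1.IsNormalScheme U) {m : ℕ} (i : U ⟶ CohB1.ProjSpace m k)
    [IsImmersion i] [QuasiCompact i] (hi : i ≫ CohB1.ProjSpace.toSpec m k = pU) :
    ∃ (Y : Scheme.{u}) (g : Y ⟶ Spec (CommRingCat.of k)) (n : ℕ) (c : Y ⟶ CohB1.ProjSpace n k) (j : U ⟶ Y),
      IsIntegral Y ∧ IsClosedImmersion c ∧ c ≫ CohB1.ProjSpace.toSpec n k = g ∧ IsOpenImmersion j ∧ j ≫ g = pU ∧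
        Pi1.IsNormalScheme Y ∧ topologicalKrullDim Y = topologicalKrullDim U := by
  haveI : IsIntegral i.image := ProperFin.isIntegral_image i
  let Z := i.image
  let qZ : Z ⟶ Spec (CommRingCat.of k) := i.imageι ≫ CohB1.ProjSpace.toSpec m k
  let g := Z.fromSpecStalk (genericPoint Z)
  haveI : QuasiCompact (g ≫ qZ) :=
    (HasAffineProperty.iff_of_isAffine (P := @QuasiCompact)).2 inferInstance
  haveI : QuasiCompact g := QuasiCompact.of_comp g qZ
  have hg : g = Spec.map (CommRingCat.ofHom (RingHom.id Z.functionField)) ≫ Z.fromSpecStalk (genericPoint Z) := by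
    rw [show CommRingCat.ofHom (RingHom.id Z.functionField) = 𝟙 _ from rfl, Spec.map_id]
    exact (Category.id_comp _).symm
  have hfin : (RingHom.id Z.functionField).Finite := RingHom.Finite.id _
  haveI := FinIntClosure.isFinite_fromNormalization (RingHom.id Z.functionField) g hg k qZ hfin
  let N := g.normalization
  let ν := g.fromNormalization
  let pN : N ⟶ Spec (CommRingCat.of k) := ν ≫ qZ
  haveI : IsProper pN := inferInstance
  -- projectivity of the normalization
  let L := (Scheme.Modules.pullback (ν ≫ i.imageι)).obj (Twist.twistProjSpace m k 1)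
  have hL : CohB1.IsAmple L := isAmple_pullback _ (AmpleEmb.isAmple_twistOne m k)
  obtain ⟨N₀, hN₀⟩ := AmpleEmb.eventually_isRelVeryAmplePn pN hL
  obtain ⟨n, c, hc, hcp, -⟩ := H1ZeroLib.exists_closedImmersion_of_va k pN (hN₀ N₀ le_rfl)
  -- the open piece
  let O := i.toImage.opensRange
  haveI : Nonempty O := ⟨⟨_, ⟨Classical.arbitrary U, rfl⟩⟩⟩
  have hηO : genericPoint Z ∈ O := ((genericPoint_spec Z).mem_open_set_iff O.2).2 ⟨_, trivial, ⟨Classical.arbitrary U, rfl⟩⟩
  have hgenN : ν (genericPoint N) = genericPoint Z := NormalSch.fromNormalization_generic _ g hg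
  haveI : Nonempty (ν ⁻¹ᵁ O) := ⟨⟨genericPoint N, show ν (genericPoint N) ∈ O from hgenN.symm ▸ hηO⟩⟩
  let a : (ν ⁻¹ᵁ O).toScheme ⟶ U := (ν ∣_ O) ≫ i.toImage.isoOpensRange.inv
  have hcomm : a ≫ i.toImage = (ν ⁻¹ᵁ O).ι ≫ ν := by
    simp only [a, Category.assoc]
    rw [Scheme.Hom.isoOpensRange_inv_comp, morphismRestrict_ι]
  have hgW : (ν ⁻¹ᵁ O).ι (genericPoint (ν ⁻¹ᵁ O).toScheme) = genericPoint N :=
    genericPoint_eq_of_isOpenImmersion _
  have hgU : i.toImage (genericPoint U) = genericPoint Z := genericPoint_eq_of_isOpenImmersion _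
  have hgen : a (genericPoint (ν ⁻¹ᵁ O).toScheme) = genericPoint U := by
    refine i.toImage.isOpenEmbedding.injective ?_
    rw [← Scheme.Hom.comp_apply, hcomm, Scheme.Hom.comp_apply, hgW, hgenN, hgU]
  have hsurj : Function.Surjective (a.stalkMap (genericPoint (ν ⁻¹ᵁ O).toScheme)) := by
    intro t
    have h1 : Function.Surjective (((ν ⁻¹ᵁ O).ι ≫ ν).stalkMap (genericPoint (ν ⁻¹ᵁ O).toScheme)) := by
      have hν : Function.Surjective (ν.stalkMap ((ν ⁻¹ᵁ O).ι (genericPoint (ν ⁻¹ᵁ O).toScheme))) := by
        rw [hgW]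
        exact surjective_stalkMap_generic g hg
      intro t'
      obtain ⟨t'', rfl⟩ := ((ConcreteCategory.isIso_iff_bijective
        ((ν ⁻¹ᵁ O).ι.stalkMap (genericPoint (ν ⁻¹ᵁ O).toScheme))).mp inferInstance).2 t'
      obtain ⟨b, rfl⟩ := hν t''
      exact ⟨b, congr($(Scheme.Hom.stalkMap_comp (ν ⁻¹ᵁ O).ι ν (genericPoint (ν ⁻¹ᵁ O).toScheme)) b)⟩
    rw [← hcomm] at h1
    obtain ⟨b, hb⟩ := h1 t
    exact ⟨i.toImage.stalkMap _ b,
      (congr($(Scheme.Hom.stalkMap_comp a i.toImage (genericPoint (ν ⁻¹ᵁ O).toScheme)) b)).symm.trans hb⟩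
  haveI : IsFinite a := inferInstance
  haveI : IsIso a := NormalSch.isIso_of_integral_birational hnor a hgen hsurj
  refine ⟨N, pN, n, c, inv a ≫ (ν ⁻¹ᵁ O).ι, inferInstance, hc, hcp, inferInstance, ?_,
    NormalSch.isNormalScheme_normalization _ g hg, ?_⟩
  · rw [Category.assoc, IsIso.inv_comp_eq]
    have e2 : pU = i.toImage ≫ qZ := by simp only [qZ, ← hi, i.toImage_imageι_assoc]
    rw [e2, ← Category.assoc a, hcomm, Category.assoc]
  · rw [← DimFormulaLib.topologicalKrullDim_opens pN (ν ⁻¹ᵁ O)
      ⟨genericPoint N, show ν (genericPoint N) ∈ O from hgenN.symm ▸ hηO⟩]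
    exact IsHomeomorph.topologicalKrullDim_eq _ a.homeomorph.isHomeomorph

end Groth.Agent.BoundaryConn
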