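import Groth.Agent.ProperFin.Chow
import Groth.Agent.NormalSch.Normalization
import Groth.Agent.AmpleLib.Pullback
import Groth.Agent.AmpleEmb.TwistOne
import Groth.Agent.CurveLib.Inv
import Groth.Agent.DimFormulaLib.Field
import Groth.Agent.ASp.EtDim

/-!
# A normal compactification of an affine variety with ample boundary
-/

set_option autoImplicit false
set_option backward.isDefEq.respectTransparency false
set_option backward.isDefEq.respectTransparency.types false
set_option linter.style.haveILetI false

universe u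

open CategoryTheory CategoryTheory.Limits AlgebraicGeometry TopologicalSpace Opposite
open Groth.Agent.AmpleLib

noncomputable section

namespace Groth.Agent.BoundaryConn

/-- A map which is closed inside an open `V` has image `closure ∩ V`. -/
theorem closure_range_inter {A P B : Scheme.{u}} (h : A ⟶ P) (V : P.Opens) (l : A ⟶ V.toScheme)
    (hl : l ≫ V.ι = h) (b : V.toScheme ⟶ B) [IsSeparated b] [IsProper (l ≫ b)] :
    closure (Set.range h) ∩ (V : Set P) = Set.range h := by
  haveI : IsProper l := IsProper.of_comp l b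
  have hrange : Set.range h = V.ι '' Set.range l := by
    rw [← hl, Scheme.Hom.comp_base, TopCat.coe_comp, Set.range_comp]
  refine Set.Subset.antisymm ?_ (Set.subset_inter subset_closure (by
    rw [hrange]; rintro _ ⟨v, -, rfl⟩; exact v.2))
  rintro x ⟨hx, hxV⟩
  rw [hrange]
  refine ⟨⟨x, hxV⟩, ?_, rfl⟩
  rw [← l.isClosedMap.isClosed_range.closure_eq, V.ι.isEmbedding.isInducing.closure_eq_preimage_closure_image]
  rw [hrange] at hx
  exact hx

/-- Inside the scheme-theoretic image, such an open cuts out exactly the source. -/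
theorem imageι_preimage_eq {A P B : Scheme.{u}} (h : A ⟶ P) [QuasiCompact h] [IsOpenImmersion h.toImage]
    (V : P.Opens) (l : A ⟶ V.toScheme) (hl : l ≫ V.ι = h) (b : V.toScheme ⟶ B) [IsSeparated b]
    [IsProper (l ≫ b)] : h.imageι ⁻¹ᵁ V = h.toImage.opensRange := by
  ext y
  change h.imageι y ∈ V ↔ y ∈ Set.range h.toImage
  constructor
  · intro hy
    have hmem : h.imageι y ∈ closure (Set.range h) ∩ (V : Set P) := by
      refine ⟨?_, hy⟩
      rw [← Scheme.Hom.support_ker, ← Scheme.IdealSheafData.range_subschemeι]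
      exact ⟨y, rfl⟩
    rw [closure_range_inter h V l hl b] at hmem
    obtain ⟨a, ha⟩ := hmem
    refine ⟨a, h.imageι.isEmbedding.injective ?_⟩
    rw [← ha, ← Scheme.Hom.comp_apply, h.toImage_imageι]
  · rintro ⟨a, rfl⟩
    rw [← Scheme.Hom.comp_apply, h.toImage_imageι, ← hl, Scheme.Hom.comp_apply]
    exact (l a).2

/-- Heights do not increase along specializing maps. -/
theorem height_le_of_specializingMap {A B : Scheme.{u}} (f : A ⟶ B) (hf : SpecializingMap f) :
    ∀ (n : ℕ) (w : A), (n : ℕ∞) ≤ Order.height (f w) → (n : ℕ∞) ≤ Order.height w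
  | 0, _, _ => by simp
  | n + 1, w, h => by
    obtain ⟨p, hp, hlen⟩ := Order.exists_series_of_le_height (f w) h
    have hne : p.length ≠ 0 := by omega
    have hlt : p.eraseLast.last < f w := hp ▸ p.eraseLast_last_rel_last hne
    have hy : (n : ℕ∞) ≤ Order.height p.eraseLast.last := by
      refine le_trans ?_ Order.length_le_height_last
      simp [hlen]
    obtain ⟨w', hw', hfw'⟩ := hf (Scheme.le_iff_specializes.1 hlt.le)
    have hw'lt : w' < w := by
      refine lt_iff_le_not_ge.2 ⟨Scheme.le_iff_specializes.2 hw', fun hle => ?_⟩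
      have h2 := (Scheme.le_iff_specializes.1 hle).map f.continuous
      rw [hfw'] at h2
      exact (lt_iff_le_not_ge.1 hlt).2 (Scheme.le_iff_specializes.2 h2)
    have h1 := height_le_of_specializingMap f hf n w' (hfw' ▸ hy)
    calc ((n + 1 : ℕ) : ℕ∞) = (n : ℕ∞) + 1 := by push_cast; rfl
      _ ≤ Order.height w' + 1 := add_le_add_left h1 1
      _ ≤ Order.height w := Order.height_add_one_le hw'lt

theorem dim_le_of_surjective {A B : Scheme.{u}} (f : A ⟶ B) [UniversallyClosed f] [Surjective f] :
    topologicalKrullDim B ≤ topologicalKrullDim A := by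
  rw [ASp.topologicalKrullDim_eq_krullDim, ASp.topologicalKrullDim_eq_krullDim]
  refine iSup_le fun p => ?_
  obtain ⟨w, hw⟩ := f.surjective p.last
  have h := height_le_of_specializingMap f f.isClosedMap.specializingMap p.length w
    (hw ▸ Order.length_le_height_last)
  exact le_trans (WithBot.coe_le_coe.2 h) (Order.height_le_krullDim w)

/-- A normal projective compactification of the normalization, with ample boundary. -/
theorem exists_normal_compactification (k : Type u) [Field k] {U : Scheme.{u}} [IsIntegral U] [IsAffine U]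
    (pU : U ⟶ Spec (CommRingCat.of k)) [LocallyOfFiniteType pU] :
    ∃ (N : Scheme.{u}) (pN : N ⟶ Spec (CommRingCat.of k)) (L : N.Modules) (s : Coh.structureModule N ⟶ L)
      (a : (CohB1.genLocus L s).toScheme ⟶ U),
      IsIntegral N ∧ IsProper pN ∧ Pi1.IsNormalScheme N ∧ CohB1.IsAmple L ∧ Mono s ∧
        ((CohB1.genLocus L s : Set N)).Nonempty ∧ IsFinite a ∧ Surjective a ∧
          a ≫ pU = (CohB1.genLocus L s).ι ≫ pN := by
  classical
  obtain ⟨n, c, hc, hcp⟩ := ProperFin.exists_chartEmb pU (isAffineOpen_top U)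
  let c' := U.topIso.inv ≫ c
  let j : U ⟶ CohB1.ProjSpace n k := c' ≫ ProjMap.chart 0
  haveI : IsClosedImmersion c' := inferInstance
  haveI : QuasiCompact (j ≫ CohB1.ProjSpace.toSpec n k) :=
    (HasAffineProperty.iff_of_isAffine (P := @QuasiCompact)).2 inferInstance
  haveI : QuasiCompact j := QuasiCompact.of_comp j (CohB1.ProjSpace.toSpec n k)
  haveI : IsImmersion j := inferInstance
  haveI : IsIntegral j.image := ProperFin.isIntegral_image j
  let Z := j.image
  let qZ : Z ⟶ Spec (CommRingCat.of k) := j.imageι ≫ CohB1.ProjSpace.toSpec n k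
  let V := (ProjMap.chart (R := k) (n := n) 0).opensRange
  haveI : IsProper ((c' ≫ (ProjMap.chart (R := k) (n := n) 0).isoOpensRange.hom) ≫ 𝟙 _) := inferInstance
  have hpre : j.imageι ⁻¹ᵁ V = j.toImage.opensRange :=
    imageι_preimage_eq j V (c' ≫ (ProjMap.chart (R := k) (n := n) 0).isoOpensRange.hom)
      (by rw [Category.assoc, Scheme.Hom.isoOpensRange_hom_ι]) (𝟙 _)
  let g := Z.fromSpecStalk (genericPoint Z)
  haveI : QuasiCompact (g ≫ qZ) :=
    (HasAffineProperty.iff_of_isAffine (P := @QuasiCompact)).2 inferInstance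
  haveI : QuasiCompact g := QuasiCompact.of_comp g qZ
  haveI : QuasiSeparated g := inferInstance
  have hg : g = Spec.map (CommRingCat.ofHom (RingHom.id Z.functionField)) ≫ Z.fromSpecStalk (genericPoint Z) := by
    rw [show CommRingCat.ofHom (RingHom.id Z.functionField) = 𝟙 _ from rfl, Spec.map_id]
    exact (Category.id_comp _).symm
  have hfin : (RingHom.id Z.functionField).Finite := RingHom.Finite.id _
  haveI := FinIntClosure.isFinite_fromNormalization (RingHom.id Z.functionField) g hg k qZ hfin
  let N := g.normalization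
  let ν := g.fromNormalization
  let pN : N ⟶ Spec (CommRingCat.of k) := ν ≫ qZ
  haveI : Surjective ν := ⟨fun z => by
    have h1 : IsClosed (Set.range ν) := ν.isClosedMap.isClosed_range
    exact ((genericPoint_spec Z).specializes trivial).mem_closed h1
      ⟨genericPoint N, NormalSch.fromNormalization_generic _ g hg⟩⟩
  let L := (Scheme.Modules.pullback (ν ≫ j.imageι)).obj (Twist.twistProjSpace n k 1)
  let s : Coh.structureModule N ⟶ L := pullS (ν ≫ j.imageι) (AmpleEmb.coordSec n k 0)
  have hW : CohB1.genLocus L s = ν ⁻¹ᵁ j.toImage.opensRange := by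
    rw [genLocus_pullS _ (AmpleEmb.isInvertible_twistOne n k), AmpleEmb.genLocus_coordSec,
      Scheme.Hom.comp_preimage, ← hpre]
    congr 2
    exact (ProjMap.mem_opensRange_chart k 0).symm
  have hne : ((CohB1.genLocus L s : Set N)).Nonempty := by
    obtain ⟨w, hw⟩ := ν.surjective (j.toImage (Classical.arbitrary U))
    refine ⟨w, ?_⟩
    rw [hW]
    exact ⟨_, hw.symm⟩
  have hL : CohB1.IsAmple L := isAmple_pullback _ (AmpleEmb.isAmple_twistOne n k)
  have hs0 : s ≠ 0 := by
    intro h0
    obtain ⟨w, hw⟩ := hne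
    rw [SetLike.mem_coe, mem_genLocus_iff hL.1, h0] at hw
    have h1 : ∀ r : N.presheaf.stalk w, r • L.presheaf.germ ⊤ w trivial (sec (0 : Coh.structureModule N ⟶ L)) = 0 := by
      intro r
      rw [show sec (0 : Coh.structureModule N ⟶ L) = 0 from rfl, map_zero, smul_zero]
    exact one_ne_zero (hw.1 ((h1 1).trans (h1 0).symm))
  let a : (CohB1.genLocus L s).toScheme ⟶ U :=
    (N.isoOfEq hW).hom ≫ (ν ∣_ j.toImage.opensRange) ≫ j.toImage.isoOpensRange.inv
  haveI : IsProper pN := inferInstance
  haveI : Surjective (ν ∣_ j.toImage.opensRange) := IsZariskiLocalAtTarget.restrict ‹Surjective ν› _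
  haveI : Surjective a := inferInstance
  refine ⟨N, pN, L, s, a, inferInstance, inferInstance, NormalSch.isNormalScheme_normalization _ g hg, hL,
    CurveLib.mono_of_ne_zero ParaFLib.isInvertible_structureModule hL.1 hs0, hne, inferInstance, inferInstance, ?_⟩
  have e1 : j ≫ CohB1.ProjSpace.toSpec n k = pU := by
    simp only [j, c', Category.assoc, hcp]
    rw [← Category.assoc]
    exact (congrArg (· ≫ pU) (Scheme.topIso U).inv_hom_id).trans (Category.id_comp _)
  have e2 : pU = j.toImage ≫ qZ := by simp only [qZ, ← e1, j.toImage_imageι_assoc]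
  simp only [a, pN, Category.assoc]
  rw [e2, Scheme.Hom.isoOpensRange_inv_comp_assoc, morphismRestrict_ι_assoc, Scheme.isoOfEq_hom_ι_assoc]

end Groth.Agent.BoundaryConn
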